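/-
S1143 (Tits): definitions.  Spherical buildings as `W`-metric spaces with a Weyl-transitive group, root groups,
isomorphisms of residues, and the algebraic data of the rank two and three residues.
-/
import Cfsg.Agent.CHEV.CTRoots
import Cfsg.Agent.CHEV.BNHecke

set_option autoImplicit false
set_option linter.unusedSectionVars false

namespace CL.TB

open CL.Chev
open scoped MatrixGroups Pointwise

section roots

variable {ι κ : Type*} [Fintype κ] [DecidableEq κ] (R : RootSys ι κ)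

/-- `w⁻¹ r > 0`: the chamber `c w` lies in the half-apartment of the root `r` -/
def Ps (w : R.W) (r : ι) : Prop := R.IsPos (w.1⁻¹ r)

/-- `k` lies in the open rational cone spanned by `r` and `s` -/
def QC (r s k : ι) : Prop :=
  ∃ a b c : ℕ, 0 < a ∧ 0 < b ∧ 0 < c ∧ (c : ℤ) • R.rt k = (a : ℤ) • R.rt r + (b : ℤ) • R.rt s

/-- `k` lies in the rational span of `r` and `s` -/
def Spn (r s k : ι) : Prop := ∃ a b c : ℤ, c ≠ 0 ∧ c • R.rt k = a • R.rt r + b • R.rt s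

/-- the longest element of `W_J` -/
noncomputable def wl [Finite ι] (J : Set κ) : R.W := ⟨R.w0 J, R.w0_mem_W J⟩

/-- `w_J w_0` -/
noncomputable def d0 [Finite ι] (J : Set κ) : R.W := wl R J * wl R Set.univ

/-- the reflection in `r` as an element of `W` -/
noncomputable def rf (r : ι) : R.W := ⟨R.refl r, R.refl_mem_W r⟩

/-- a simple edge -/
def E3 (i j : κ) : Prop := R.A i j = -1 ∧ R.A j i = -1

/-- the roots `e_a - e_b` of the system spanned by a simple edge `i, j` (`α_i = e_0 - e_1`, `α_j = e_1 - e_2`) -/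
def rt3 (i j : κ) : Fin 3 → Fin 3 → ι :=
  ![![R.simple i, R.simple i, R.σ i (R.simple j)],
    ![R.neg (R.simple i), R.simple i, R.simple j],
    ![R.neg (R.σ i (R.simple j)), R.neg (R.simple j), R.simple i]]

/-- three nodes of type `B₃`: `α_{a1} = e_0 - e_1`, `α_{a2} = e_1 - e_2`, `α_b = e_2` -/
structure B3 (a1 a2 b : κ) : Prop where
  e12 : E3 R a1 a2
  h2b : R.A a2 b = -1
  hb2 : R.A b a2 = -2
  h1b : R.A a1 b = 0

/-- the combinatorics of the type `Bₙ` used in the proof of the Moufang property -/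
structure ShB (a1 a2 b : κ) : Prop extends B3 R a1 a2 b where
  edge : ∀ i, i ≠ b → ∃ j, E3 R i j
  orb : ∀ i, i ≠ b → ∃ w : R.W, w.1 (R.simple a2) = R.simple i
  walls : ∀ T : Set ι, (∀ β ∈ T, R.neg β ∈ T) →
    (∀ β ∈ T, ∀ γ ∈ T, R.pair γ β ≠ 0 → β ≠ γ → β ≠ R.neg γ → ¬ Spn R β γ (R.σ a1 (R.simple a2)) →
      R.refl γ β ∈ T) →
    (∀ β, R.len β = R.len (R.simple a2) → β ≠ R.σ a1 (R.simple a2) → β ≠ R.neg (R.σ a1 (R.simple a2)) → β ∈ T) →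
    (∀ β ∈ R.sub {a2, b}, β ∈ T) →
    ∀ β, β ≠ R.σ a1 (R.simple a2) → β ≠ R.neg (R.σ a1 (R.simple a2)) → β ∈ T

/-- the diagram is a tree rooted at `root`; every edge other than `{a, root}` is simple -/
structure Tree (root a : κ) (par : κ → κ) (rk : κ → ℕ) : Prop where
  lt : ∀ i, i ≠ root → rk (par i) < rk i
  adj : ∀ i j, i ≠ j → R.A i j ≠ 0 → (i ≠ root ∧ par i = j) ∨ (j ≠ root ∧ par j = i)
  ne : a ≠ root
  par_a : par a = root
  A_a : R.A a root ≠ 0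
  edge : ∀ i, i ≠ root → i ≠ a → E3 R (par i) i

end roots

/-- A thick building of type `R`, as a `W`-metric space. -/
structure WD {ι κ : Type*} [Fintype κ] [DecidableEq κ] (R : RootSys ι κ) (Ω : Type*) where
  δ : Ω → Ω → R.W
  δ_eq_one : ∀ x y, δ x y = 1 ↔ x = y
  δ_inv : ∀ x y, δ y x = (δ x y)⁻¹
  wd2 : ∀ x y z i, δ y z = R.sW i → δ x z = δ x y * R.sW i ∨ δ x z = δ x y
  wd2' : ∀ x y z i, δ y z = R.sW i → R.IsPos ((δ x y).1 (R.simple i)) → δ x z = δ x y * R.sW i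
  wd3 : ∀ x y i, ∃ z, δ y z = R.sW i ∧ δ x z = δ x y * R.sW i
  thick : ∀ x i, ∃ y z, y ≠ z ∧ δ x y = R.sW i ∧ δ x z = R.sW i

namespace WD

variable {ι κ Ω : Type*} [Fintype κ] [DecidableEq κ] {R : RootSys ι κ} (D : WD R Ω)

/-- the `i`-panel of `x` -/
def pan (x : Ω) (i : κ) : Set Ω := {y | y = x ∨ D.δ x y = R.sW i}

/-- the `J`-residue of `x` -/
def res (x : Ω) (J : Set κ) : Set Ω := {y | (D.δ x y).1 ∈ R.WJ J}

end WD

/-- A building with a Weyl-transitive group of automorphisms and an apartment `c`; the type has no isolated node and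
no triple bond. -/
structure Bld {ι κ : Type*} [Fintype κ] [DecidableEq κ] (R : RootSys ι κ) (G Ω : Type*) [Group G] [MulAction G Ω]
    extends WD R Ω where
  δ_smul : ∀ (g : G) x y, δ (g • x) (g • y) = δ x y
  c : R.W → Ω
  δ_c : ∀ u v, δ (c u) (c v) = u⁻¹ * v
  exists_n : ∀ w : R.W, ∃ n : G, ∀ v, n • c v = c (w * v)
  trans : ∀ x y x' y', δ x y = δ x' y' → ∃ g : G, g • x = x' ∧ g • y = y'
  noiso : ∀ i, ∃ j, j ≠ i ∧ R.A i j ≠ 0
  le2 : ∀ i j, i ≠ j → R.A i j * R.A j i ≤ 2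

namespace Bld

variable {ι κ G Ω G' Ω' : Type*} [Fintype κ] [DecidableEq κ] {R : RootSys ι κ} [Group G] [MulAction G Ω]
  [Group G'] [MulAction G' Ω'] (B : Bld R G Ω)

/-- the standard `J`-residue -/
def Res (J : Set κ) : Set Ω := B.res (B.c 1) J

/-- `n` induces `w` on the apartment -/
def IsN (n : G) (w : R.W) : Prop := ∀ v, n • B.c v = B.c (w * v)

/-- the pointwise stabiliser of the apartment -/
def H : Subgroup G := fixingSubgroup G (Set.range B.c)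

/-- the pointwise stabiliser of the half-apartment of `r` -/
def Fx (r : ι) : Subgroup G := fixingSubgroup G {y | ∃ w, Ps R w r ∧ y = B.c w}

/-- the root group: fixes the half-apartment of `r` and all chambers in the panels in its interior -/
def X (r : ι) : Subgroup G :=
  fixingSubgroup G {y | ∃ w, Ps R w r ∧ (y = B.c w ∨ ∃ i, w.1 (R.simple i) ≠ r ∧ y ∈ B.pan (B.c w) i)}

/-- `g` is trivial on a panel of the wall of `β` -/
def Tw (g : G) (β : ι) : Prop := ∃ (w : R.W) (i : κ), w.1 (R.simple i) = β ∧ ∀ y ∈ B.pan (B.c w) i, g • y = y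

/-- the parameter of the node `i` -/
noncomputable def q (i : κ) : ℕ := Nat.card {y // B.δ (B.c 1) y = R.sW i}

/-- the Moufang property at the node `i` -/
def Mouf (i : κ) : Prop := ∀ y, B.δ (B.c 1) y = R.sW i → ∃ g ∈ B.X (R.simple i), g • B.c (R.sW i) = y

/-- the Levi subgroup: the stabiliser of the standard `J`-residue and of the opposite residue through `c (w_J w_0)` -/
def L [Finite ι] (J : Set κ) : Subgroup G :=
  MulAction.stabilizer G (B.Res J) ⊓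
    MulAction.stabilizer G {y | (d0 R J * B.δ (B.c (d0 R J)) y * (d0 R J)⁻¹).1 ∈ R.WJ J}

/-- `X_{α_a}` commutes with `X_{s_b α_a}` -/
def Bit (a b : κ) : Prop := ∀ x ∈ B.X (R.simple a), ∀ y ∈ B.X (R.σ b (R.simple a)), Commute x y

/-- `Ψ` is an isomorphism of the standard `J`-residues respecting the apartments -/
structure Iso (B' : Bld R G' Ω') (J : Set κ) (Ψ : Ω → Ω') : Prop where
  δ_eq : ∀ x ∈ B.Res J, ∀ y ∈ B.Res J, B'.δ (Ψ x) (Ψ y) = B.δ x y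
  surj : ∀ y' ∈ B'.Res J, ∃ y ∈ B.Res J, Ψ y = y'
  c_eq : ∀ v : R.W, v.1 ∈ R.WJ J → Ψ (B.c v) = B'.c v

variable (G') in
/-- the pairs intertwined by `Ψ` on the standard `J`-residue -/
def Cmp (J : Set κ) (Ψ : Ω → Ω') : Subgroup (G × G') where
  carrier := {d | (∀ y, d.1 • y ∈ B.Res J ↔ y ∈ B.Res J) ∧ ∀ y ∈ B.Res J, Ψ (d.1 • y) = d.2 • Ψ y}
  one_mem' := ⟨by simp, by simp⟩
  mul_mem' := fun {a b} ha hb => ⟨fun y => by rw [Prod.fst_mul, mul_smul, ha.1, hb.1], fun y hy => by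
    rw [Prod.fst_mul, Prod.snd_mul, mul_smul, mul_smul, ha.2 _ ((hb.1 y).2 hy), hb.2 y hy]⟩
  inv_mem' := fun {a} ha => ⟨fun y => by rw [Prod.fst_inv, ← ha.1, smul_inv_smul], fun y hy => by
    have := ha.2 (a.1⁻¹ • y) (by rw [← ha.1, smul_inv_smul]; exact hy)
    rw [smul_inv_smul] at this
    rw [Prod.fst_inv, Prod.snd_inv, this, inv_smul_smul]⟩

/-- `Ψ` intertwines the root groups of `Φ_J` -/
def Full (B' : Bld R G' Ω') (J : Set κ) (Ψ : Ω → Ω') : Prop :=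
  ∀ r ∈ R.sub J, (∀ x ∈ B.X r, ∃ x' ∈ B'.X r, (x, x') ∈ B.Cmp G' J Ψ) ∧
    ∀ x' ∈ B'.X r, ∃ x ∈ B.X r, (x, x') ∈ B.Cmp G' J Ψ

/-- `Y` is the graph of an isomorphism `X_r ≃ X'_r` -/
structure Gr (B' : Bld R G' Ω') (r : ι) (Y : Subgroup (G × G')) : Prop where
  le : ∀ y ∈ Y, y.1 ∈ B.X r ∧ y.2 ∈ B'.X r
  onto : ∀ x ∈ B.X r, ∃ x', (x, x') ∈ Y
  onto' : ∀ x' ∈ B'.X r, ∃ x, (x, x') ∈ Y
  inj : ∀ y ∈ Y, y.1 = 1 ↔ y.2 = 1

end Bld

section A2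

variable {K : Type*} [Field K]

/-- the elementary matrix `1 + t E_{ab}` (junk value `1` for `a = b`) -/
def El (a b : Fin 3) (t : K) : SL(3, K) :=
  if h : a = b then 1 else ⟨Matrix.transvection a b t, Matrix.det_transvection_of_ne a b h t⟩

/-- `n_{ab}(t) = x_{ab}(t) x_{ba}(-t⁻¹) x_{ab}(t)` -/
def nEl (a b : Fin 3) (t : K) : SL(3, K) := El a b t * El b a (-t⁻¹) * El a b t

variable {ι κ G Ω : Type*} [Fintype κ] [DecidableEq κ] [Finite ι] {R : RootSys ι κ} [Group G] [MulAction G Ω]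

/-- coordinates on the residue of a simple edge: it is the flag complex of the plane over `K` -/
structure A2 (B : Bld R G Ω) (i j : κ) (K : Type*) [Field K] where
  ρ : SL(3, K) →* Equiv.Perm Ω
  lift : ∀ A, ∃ g ∈ B.L {i, j}, ∀ y ∈ B.Res {i, j}, g • y = ρ A y
  norm : ∀ g : G, g • B.c 1 = B.c 1 → ∀ A, ∃ A', ∀ y ∈ B.Res {i, j}, g • ρ A y = ρ A' (g • y)
  stab : ∀ A, ρ A (B.c 1) = B.c 1 ↔ A 1 0 = 0 ∧ A 2 0 = 0 ∧ A 2 1 = 0
  n_i : ∀ v : R.W, v.1 ∈ R.WJ {i, j} → ρ (nEl 0 1 1) (B.c v) = B.c (R.sW i * v)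
  n_j : ∀ v : R.W, v.1 ∈ R.WJ {i, j} → ρ (nEl 1 2 1) (B.c v) = B.c (R.sW j * v)
  pan_i : ∀ y, B.δ (B.c 1) y = R.sW i → ∃ u, y = ρ (El 0 1 u) (B.c (R.sW i))
  pan_j : ∀ y, B.δ (B.c 1) y = R.sW j → ∃ u, y = ρ (El 1 2 u) (B.c (R.sW j))

/-- `g` lies in the Levi subgroup and induces the matrix `A` -/
def A2.Ind {B : Bld R G Ω} {i j : κ} (P : A2 B i j K) (g : G) (A : SL(3, K)) : Prop :=
  g ∈ B.L {i, j} ∧ ∀ y ∈ B.Res {i, j}, g • y = P.ρ A y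

end A2

/-- Steinberg elements of type `A₂` -/
structure St3 (K G : Type*) [Field K] [Group G] where
  x : Fin 3 → Fin 3 → K → G
  x_add : ∀ a b, a ≠ b → ∀ t u, x a b (t + u) = x a b t * x a b u
  x_comm : ∀ a b c, a ≠ b → a ≠ c → b ≠ c → ∀ t u, x a b t * x b c u = x a c (t * u) * x b c u * x a b t
  x_row : ∀ a b c, a ≠ b → a ≠ c → ∀ t u, Commute (x a b t) (x a c u)
  x_col : ∀ a b c, a ≠ c → b ≠ c → ∀ t u, Commute (x a c t) (x b c u)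
  n_sym : ∀ a b, a ≠ b → ∀ t, t ≠ 0 → x a b t * x b a (-t⁻¹) * x a b t = x b a (-t⁻¹) * x a b t * x b a (-t⁻¹)

/-- `n_{ab}(t)` -/
def St3.n {K G : Type*} [Field K] [Group G] (S : St3 K G) (a b : Fin 3) (t : K) : G :=
  S.x a b t * S.x b a (-t⁻¹) * S.x a b t

/-- Steinberg elements parametrising the root groups of a simple edge -/
structure Par {ι κ G Ω : Type*} [Fintype κ] [DecidableEq κ] {R : RootSys ι κ} [Group G] [MulAction G Ω]
    (B : Bld R G Ω) (i j : κ) {K : Type*} [Field K] (S : St3 K G) : Prop where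
  mem : ∀ a b, a ≠ b → ∀ g, g ∈ B.X (rt3 R i j a b) ↔ ∃ t, g = S.x a b t
  inj : ∀ a b, a ≠ b → ∀ t, S.x a b t = 1 → t = 0
  isN : ∀ a b, a ≠ b → ∀ t, t ≠ 0 → B.IsN (S.n a b t) (rf R (rt3 R i j a b))

/-- The unipotent radical of the parabolic subgroup of type `A₂` in type `B₃`: `V a = X_{e_a}`, `Y a b = X_{e_a + e_b}`. -/
structure C3 (K G : Type*) [Field K] [Group G] extends St3 K G where
  V : Fin 3 → Subgroup G
  Y : Fin 3 → Fin 3 → Subgroup G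
  Y_symm : ∀ a b, Y a b = Y b a
  nV : ∀ a b, a ≠ b → ∀ t, t ≠ 0 → ∀ v ∈ V b, toSt3.n a b t * v * (toSt3.n a b t)⁻¹ ∈ V a
  nY : ∀ a b c, a ≠ b → a ≠ c → b ≠ c → ∀ t, t ≠ 0 → ∀ y ∈ Y b c, toSt3.n a b t * y * (toSt3.n a b t)⁻¹ ∈ Y a c
  nY' : ∀ a b, a ≠ b → ∀ t, t ≠ 0 → ∀ y ∈ Y a b, toSt3.n a b t * y * (toSt3.n a b t)⁻¹ ∈ Y a b
  xV : ∀ a b, a ≠ b → ∀ t, ∀ v ∈ V b, ∃ l ∈ V a, ∃ k ∈ Y a b, x a b t * v * (x a b t)⁻¹ = v * l * k
  xV0 : ∀ a b c, a ≠ b → c ≠ b → ∀ t, ∀ v ∈ V c, Commute (x a b t) v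
  xY : ∀ a b c, a ≠ b → a ≠ c → b ≠ c → ∀ t, ∀ y ∈ Y b c, ∃ g ∈ Y a c, x a b t * y * (x a b t)⁻¹ = y * g
  xY0 : ∀ a b c, a ≠ b → a ≠ c → b ≠ c → ∀ t, ∀ y ∈ Y a c, Commute (x a b t) y
  xY1 : ∀ a b, a ≠ b → ∀ t, ∀ y ∈ Y a b, ∃ z ∈ V a, x a b t * y * (x a b t)⁻¹ = y * z
  VV : ∀ a b, a ≠ b → ∀ v ∈ V a, ∀ w ∈ V b, ∃ y ∈ Y a b, v * w = w * v * y
  VY : ∀ a b c, a ≠ b → ∀ v ∈ V c, ∀ y ∈ Y a b, Commute v y
  YY : ∀ a b c d, a ≠ b → c ≠ d → ∀ y ∈ Y a b, ∀ z ∈ Y c d, Commute y z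
  ind : ∀ a b c, a ≠ b → a ≠ c → b ≠ c → ∀ u ∈ V a, ∀ v ∈ V b, ∀ w ∈ V c, ∀ y₁ ∈ Y a b, ∀ y₂ ∈ Y a c, ∀ y₃ ∈ Y b c,
    u * v * w * y₁ * y₂ * y₃ = 1 → u = 1 ∧ v = 1 ∧ w = 1 ∧ y₁ = 1 ∧ y₂ = 1 ∧ y₃ = 1
  cardY : Nat.card (Y 1 2) = Nat.card K
  nondeg : ∀ v ∈ V 2, ∀ l ∈ V 1, x 1 2 1 * v * (x 1 2 1)⁻¹ = v * l → v = 1
  V_ne : V 2 ≠ ⊥

/-- The pseudo-quadratic data of a Moufang quadrangle in a building of type `B₃`; `Δ d = c₀ σ(d)`. -/
structure QD (K V : Type*) [Field K] [Group V] where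
  σ : K →+* K
  c₀ : K
  sm : K → V → V
  N : V → K
  b : V → V → K
  ζ : K → K → V
  σ_σ : ∀ t, σ (σ t) = t
  c₀_σ : c₀ * σ c₀ = 1
  sm_mul : ∀ t u v, sm (t * u) v = sm t (sm u v)
  sm_one : ∀ v, sm 1 v = v
  sm_zero : ∀ v, sm 0 v = 1
  sm_hom : ∀ t v w, sm t (v * w) = sm t v * sm t w
  sm_add : ∀ t u v, sm (t + u) v = sm t v * sm u v * ζ t (u * N v)
  N_mul : ∀ v w, N (v * w) = N v + N w + b v w
  b_mul_left : ∀ u v w, b (u * v) w = b u w + b v w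
  b_mul_right : ∀ u v w, b u (v * w) = b u v + b u w
  b_sm_left : ∀ t v w, b (sm t v) w = t * b v w
  b_sm_right : ∀ t v w, b v (sm t w) = σ t * b v w
  N_sm : ∀ t v, N (sm t v) = t * σ t * N v
  N_sub : ∀ v, N v - c₀ * σ (N v) = b v v
  N_eq_zero : ∀ v, N v = 0 → v = 1
  b_ζ : ∀ t d w, b (ζ t d) w = 0
  N_ζ : ∀ t d, N (ζ t d) = σ t * d + c₀ * σ (σ t * d)
  nontriv : ∃ v : V, v ≠ 1

/-- a realisation of the data `D` by elements `x t ∈ U₁`, `v₂ v ∈ U₂`, `y d ∈ U₃`, `v₄ v ∈ U₄` -/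
structure QD.Real {K V : Type*} [Field K] [Group V] (D : QD K V) {G : Type*} [Group G] (x : K → G) (v₂ : V →* G)
    (y : K → G) (v₄ : V →* G) : Prop where
  x_add : ∀ t u, x (t + u) = x t * x u
  y_add : ∀ d e, y (d + e) = y d * y e
  r14 : ∀ t v, x t * v₄ v * (x t)⁻¹ = v₄ v * v₂ (D.sm t v) * y (t * D.N v)
  r24 : ∀ v w, v₂ v * v₄ w = v₄ w * v₂ v * y (D.b v w)
  r13 : ∀ t d, x t * y d * (x t)⁻¹ = y d * v₂ (D.ζ t d)
  r12 : ∀ t v, Commute (x t) (v₂ v)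
  r23 : ∀ v d, Commute (v₂ v) (y d)
  r34 : ∀ d v, Commute (y d) (v₄ v)

/-- `G` has a BN-pair with Coxeter matrix `m` and parameters `q` -/
def BNT {κ : Type*} (G : Type*) [Group G] (m : κ → κ → ℕ) (q : κ → ℕ) : Prop :=
  ∃ (P : Cfsg.BNPair G) (e : κ ≃ P.S), (∀ i j, orderOf (BN.sW P (e i) * BN.sW P (e j)) = m i j) ∧
    ∀ i, BN.cellIdx P (BN.sW P (e i)) = q i

/-- the types of irreducible diagrams of rank at least three -/
inductive Ty | A | B | D | E | F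
  deriving DecidableEq

/-- the admissible ranks -/
def Ty.ok : Ty → ℕ → Prop
  | .A, n => 3 ≤ n
  | .B, n => 3 ≤ n
  | .D, n => 4 ≤ n
  | .E, n => n = 6 ∨ n = 7 ∨ n = 8
  | .F, n => n = 4

/-- the edges `i < j` -/
def Ty.adj : Ty → ℕ → ℕ → ℕ → Prop
  | .D, n, i, j => (j = i + 1 ∧ j + 2 ≤ n) ∨ (i + 3 = n ∧ j + 1 = n)
  | .E, _, i, j => (i = 0 ∧ j = 2) ∨ (i = 1 ∧ j = 3) ∨ (2 ≤ i ∧ j = i + 1)
  | _, _, i, j => j = i + 1

/-- the double edges `i < j` -/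
def Ty.dbl : Ty → ℕ → ℕ → ℕ → Prop
  | .B, n, i, j => i + 2 = n ∧ j + 1 = n
  | .F, _, i, j => i = 1 ∧ j = 2
  | _, _, _, _ => False

instance Ty.decAdj (t : Ty) (n i j : ℕ) : Decidable (t.adj n i j) := by
  cases t <;> simp only [Ty.adj] <;> infer_instance

instance Ty.decDbl (t : Ty) (n i j : ℕ) : Decidable (t.dbl n i j) := by
  cases t <;> simp only [Ty.dbl] <;> infer_instance

/-- the Coxeter matrix -/
def Ty.m (t : Ty) (n : ℕ) (i j : Fin n) : ℕ :=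
  if i = j then 1 else if t.dbl n i j ∨ t.dbl n j i then 4 else if t.adj n i j ∨ t.adj n j i then 3 else 2

/-- `2 cos (π / m)` for `m = 2, 3, 4, 6, 8`, and `0` on the diagonal `m = 1` -/
noncomputable def cc (m : ℕ) : ℝ :=
  if m = 3 then 1 else if m = 4 then √2 else if m = 6 then √3 else if m = 8 then √(2 + √2) else 0

end CL.TB
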