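/-
S1143 (Tits), Hua: Hua's identity over a finite field, and the Steinberg calculus.
-/
import Cfsg.Agent.CHEV.TB.Def

set_option autoImplicit false
set_option linter.unusedSectionVars false

namespace CL.TB

open CL.Chev
open scoped MatrixGroups commutatorElement

/-- For `a, b ≠ 0`, `a b ≠ 1` put `c = b⁻¹ - a`, `d = a⁻¹ + c⁻¹ = (a b c)⁻¹`, `a b c = a - a² b`.  `g d = g a⁻¹ + g c⁻¹` and `f c + f a = f b⁻¹` give
`g d = g a⁻¹ * f b⁻¹ * g c⁻¹`, so `f (d⁻¹) = f c * g b * f a = f a - f a * g b * f a`, i.e. `f (a² b) = f a * g b * f a` (also for `a b = 1`, `b = 0`);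
`a = 1` gives `f = g`.  With a generator `ω` of `Kˣ`, `f (ω ^ n) = f ω ^ n` by two-step induction. -/
theorem hua {K A : Type*} [Field K] [Finite K] [Ring A] (f g : K →+ A) (h1 : f 1 = 1)
    (h : ∀ t, t ≠ 0 → f t * g t⁻¹ = 1 ∧ g t⁻¹ * f t = 1) (t u : K) : f (t * u) = f t * f u := by
  have k : ∀ a b, f (a * a * b) = f a * g b * f a := fun a b => by
    by_cases ha : a = 0
    · simp [ha]
    by_cases hb : b = 0
    · simp [hb]
    by_cases hab : a * b = 1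
    · rw [mul_assoc, hab, mul_one, ← inv_eq_of_mul_eq_one_right hab, (h a ha).1, one_mul]
    have hc : b⁻¹ - a ≠ 0 := fun e => hab (by rw [← sub_eq_zero.1 e, inv_mul_cancel₀ hb])
    have hd : a - a * a * b ≠ 0 := by
      rw [show a - a * a * b = a * b * (b⁻¹ - a) by field_simp]; exact mul_ne_zero (mul_ne_zero ha hb) hc
    have e : (a - a * a * b)⁻¹ = a⁻¹ + (b⁻¹ - a)⁻¹ := by
      rw [show a - a * a * b = a * b * (b⁻¹ - a) by field_simp]; field_simp; ring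
    have e1 : g (a - a * a * b)⁻¹ * (f (b⁻¹ - a) * g b * f a) = 1 := by
      have hb' := (h b⁻¹ (inv_ne_zero hb)).1
      rw [inv_inv] at hb'
      rw [e, map_add, add_mul, ← mul_assoc (g (b⁻¹ - a)⁻¹), ← mul_assoc (g (b⁻¹ - a)⁻¹), (h _ hc).2, one_mul, map_sub, sub_mul,
        hb', sub_mul, mul_sub, one_mul, (h a ha).2, ← mul_assoc, ← mul_assoc, (h a ha).2, one_mul, sub_add_cancel]
    have hb' := (h b⁻¹ (inv_ne_zero hb)).1
    rw [inv_inv] at hb'
    have e2 := congrArg (f (a - a * a * b) * ·) e1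
    simp only [← mul_assoc, (h _ hd).1, one_mul, mul_one] at e2
    rw [map_sub, map_sub, sub_mul, hb', sub_mul, one_mul, sub_right_inj] at e2
    exact e2.symm
  have fg : ∀ b, g b = f b := fun b => by simpa [h1] using (k 1 b).symm
  obtain ⟨ω, hω⟩ := IsCyclic.exists_monoid_generator (α := Kˣ)
  have p : ∀ n : ℕ, f (ω ^ n) = f ω ^ n := fun n => by
    induction n using Nat.twoStepInduction with
    | zero => simpa using h1
    | one => simp
    | more n ih _ => rw [show (ω : K) ^ (n + 2) = ω * ω * ω ^ n by ring, k, fg, ih, ← pow_succ', ← pow_succ]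
  by_cases ht : t = 0
  · simp [ht]
  by_cases hu : u = 0
  · simp [hu]
  obtain ⟨m, hm⟩ := hω (Units.mk0 t ht)
  obtain ⟨n, hn⟩ := hω (Units.mk0 u hu)
  rw [show t = ω ^ m by simpa using congrArg Units.val hm.symm, show u = ω ^ n by simpa using congrArg Units.val hn.symm,
    ← pow_add, p, p, p, pow_add]

namespace St3

variable {K G : Type*} [Field K] [Group G] (S : St3 K G) {a b c : Fin 3}

theorem x_zero (h : a ≠ b) : S.x a b 0 = 1 := by simpa using S.x_add a b h 0 0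
theorem x_neg (h : a ≠ b) (t : K) : S.x a b (-t) = (S.x a b t)⁻¹ := by
  rw [eq_inv_iff_mul_eq_one, ← S.x_add a b h, neg_add_cancel, S.x_zero h]
theorem n_neg (h : a ≠ b) (t : K) : S.n a b (-t) = (S.n a b t)⁻¹ := by
  simp only [n, mul_inv_rev, inv_neg, S.x_neg h, S.x_neg h.symm, mul_assoc]
theorem n_swap (h : a ≠ b) {t : K} (ht : t ≠ 0) : S.n a b t = S.n b a (-t⁻¹) := by
  rw [n, S.n_sym a b h t ht, n]; simp
theorem conj_row (h1 : a ≠ b) (h2 : a ≠ c) (h3 : b ≠ c) (t u : K) :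
    S.x a b t * S.x b c u * (S.x a b t)⁻¹ = S.x b c u * S.x a c (t * u) := by
  rw [S.x_comm a b c h1 h2 h3, mul_inv_cancel_right, (S.x_col a b c h2 h3 _ _).eq]
theorem conj_col (h1 : a ≠ b) (h2 : a ≠ c) (h3 : b ≠ c) (t u : K) :
    S.x a b t * S.x c a u * (S.x a b t)⁻¹ = S.x c a u * S.x c b (-(t * u)) := by
  rw [mul_inv_eq_iff_eq_mul, (S.x_row c a b h2.symm h3.symm _ _).eq, mul_assoc, S.x_neg h3.symm, eq_inv_mul_iff_mul_eq]
  have := S.x_comm c a b h2.symm h3.symm h1 u t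
  rw [this, mul_comm u t, mul_assoc]
theorem n_conj_bc (h1 : a ≠ b) (h2 : a ≠ c) (h3 : b ≠ c) {t : K} (ht : t ≠ 0) (u : K) :
    S.n a b t * S.x b c u * (S.n a b t)⁻¹ = S.x a c (t * u) := by
  have e1 := fun u => S.conj_row h1 h2 h3 t u
  have e2 := fun u => S.conj_row h1.symm h3 h2 (-t⁻¹) u
  have e3 := fun u => mul_inv_eq_iff_eq_mul.2 (S.x_row a b c h1 h2 t u).eq
  have e4 := fun u => mul_inv_eq_iff_eq_mul.2 (S.x_row b a c h1.symm h3 (-t⁻¹) u).eq
  simp only [← MulAut.conj_apply] at *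
  rw [n, map_mul, map_mul, MulAut.mul_apply, MulAut.mul_apply, e1, map_mul, e2, e4, (S.x_col a b c h2 h3 _ _).eq, ← mul_assoc,
    ← S.x_add b c h3, show u + -t⁻¹ * (t * u) = 0 by field_simp; ring, S.x_zero h3, one_mul, e3]
theorem n_conj_ac (h1 : a ≠ b) (h2 : a ≠ c) (h3 : b ≠ c) {t : K} (ht : t ≠ 0) (u : K) :
    S.n a b t * S.x a c u * (S.n a b t)⁻¹ = S.x b c (-(t⁻¹ * u)) := by
  rw [S.n_swap h1 ht, S.n_conj_bc h1.symm h3 h2 (by simpa), neg_mul]
theorem n_conj_ca (h1 : a ≠ b) (h2 : a ≠ c) (h3 : b ≠ c) {t : K} (ht : t ≠ 0) (u : K) :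
    S.n a b t * S.x c a u * (S.n a b t)⁻¹ = S.x c b (-(t * u)) := by
  have e1 := fun u => S.conj_col h1 h2 h3 t u
  have e2 := fun u => S.conj_col h1.symm h3 h2 (-t⁻¹) u
  have e3 := fun u => mul_inv_eq_iff_eq_mul.2 (S.x_col a c b h1 h3.symm t u).eq
  have e4 := fun u => mul_inv_eq_iff_eq_mul.2 (S.x_col b c a h1.symm h2.symm (-t⁻¹) u).eq
  simp only [← MulAut.conj_apply] at *
  rw [n, map_mul, map_mul, MulAut.mul_apply, MulAut.mul_apply, e1, map_mul, e2, e4, (S.x_row c b a h3.symm h2.symm _ _).eq,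
    ← mul_assoc, ← S.x_add c a h2.symm, show u + -(-t⁻¹ * -(t * u)) = 0 by field_simp; ring, S.x_zero h2.symm, one_mul, e3]
theorem n_conj_cb (h1 : a ≠ b) (h2 : a ≠ c) (h3 : b ≠ c) {t : K} (ht : t ≠ 0) (u : K) :
    S.n a b t * S.x c b u * (S.n a b t)⁻¹ = S.x c a (t⁻¹ * u) := by
  rw [S.n_swap h1 ht, S.n_conj_ca h1.symm h3 h2 (by simpa), neg_mul, neg_neg]
/-- write `x a b u` as a commutator of `x a c u`, `x c b 1` with the third index `c` -/
theorem n_conj_ab (h : a ≠ b) {t : K} (ht : t ≠ 0) (u : K) :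
    S.n a b t * S.x a b u * (S.n a b t)⁻¹ = S.x b a (-(t⁻¹ * t⁻¹ * u)) := by
  obtain ⟨c, h2, h3⟩ : ∃ c, a ≠ c ∧ b ≠ c := by revert a b; decide
  have e := S.conj_row h2 h h3.symm u 1
  have e1 := S.n_conj_ac h h2 h3 ht u
  have e2 := S.n_conj_cb h h2 h3 ht 1
  simp only [← MulAut.conj_apply] at e1 e2 ⊢
  have e3 := congrArg (MulAut.conj (S.n a b t)) e
  rw [map_mul, map_mul, map_mul, map_inv, e1, e2, S.conj_row h3 h.symm h2.symm, mul_right_inj, mul_one, mul_one] at e3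
  rw [← e3]; congr 1; ring
theorem n_conj_ba (h : a ≠ b) {t : K} (ht : t ≠ 0) (u : K) :
    S.n a b t * S.x b a u * (S.n a b t)⁻¹ = S.x a b (-(t * t * u)) := by
  rw [S.n_swap h ht, S.n_conj_ab h.symm (by simpa)]; simp

end St3

end CL.TB
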